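import Groth.Agent.OmegaUnivLib.Basic
import Mathlib.Algebra.Category.ModuleCat.Presheaf.Sheafification

/-!
# Existence of universal derivations for an arbitrary morphism of schemes
-/

set_option autoImplicit false
set_option backward.isDefEq.respectTransparency false
set_option backward.defeqAttrib.useBackward true
set_option linter.style.haveILetI false
set_option maxHeartbeats 1000000

universe u

open CategoryTheory CategoryTheory.Limits AlgebraicGeometry TopologicalSpace Opposite
open Groth.Agent.OmegaUnivLib

namespace Groth.Agent.OmegaExistLib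

noncomputable section

variable {X Y : Scheme.{u}} (f : X ⟶ Y)

/-- The subring of local functions generated by functions coming from the base. -/
def baseSub (U : X.Opens) : Subring Γ(X, U) :=
  Subring.closure {x | ∃ (V : Y.Opens) (h : U ≤ f ⁻¹ᵁ V) (c : Γ(Y, V)), f.appLE V U h c = x}

theorem baseSub_le {U V : X.Opens} (k : U ⟶ V) :
    baseSub f V ≤ (baseSub f U).comap (X.presheaf.map k.op).hom :=
  Subring.closure_le.2 fun _ ⟨W, h, c, hc⟩ => Subring.subset_closure ⟨W, k.le.trans h, c, by
    rw [← hc, ← CommRingCat.comp_apply, Scheme.Hom.appLE_map]⟩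

/-- These subrings as a presheaf. -/
def basePre : X.Opensᵒᵖ ⥤ CommRingCat.{u} where
  obj U := CommRingCat.of (baseSub f U.unop)
  map {U V} k := CommRingCat.ofHom
    (((X.presheaf.map k).hom.comp (baseSub f U.unop).subtype).codRestrict (baseSub f V.unop)
      fun x => baseSub_le f k.unop x.2)
  map_id U := by
    refine CommRingCat.hom_ext (RingHom.ext fun (x : baseSub f U.unop) => Subtype.ext ?_)
    show X.presheaf.map (𝟙 U) x.1 = x.1
    rw [CategoryTheory.Functor.map_id]; rfl
  map_comp {U V W} k l := by
    refine CommRingCat.hom_ext (RingHom.ext fun (x : baseSub f U.unop) => Subtype.ext ?_)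
    show X.presheaf.map (k ≫ l) x.1 = X.presheaf.map l (X.presheaf.map k x.1)
    rw [CategoryTheory.Functor.map_comp]; rfl

/-- The inclusion. -/
def baseι : basePre f ⟶ X.presheaf where
  app U := CommRingCat.ofHom (baseSub f U.unop).subtype
  naturality _ _ _ := rfl

theorem der_baseSub {F : X.Modules} (D : OmegaSh.Der f F) (U : X.Opens) (x : Γ(X, U)) (hx : x ∈ baseSub f U) :
    D.app U x = 0 := by
  induction hx using Subring.closure_induction with
  | mem x hx =>
    obtain ⟨V, h, c, rfl⟩ := hx
    exact app_appLE D V U h c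
  | zero => exact map_zero _
  | one => exact app_one D U
  | add x y _ _ hx hy => rw [map_add, hx, hy, add_zero]
  | neg x _ hx => rw [map_neg, hx, neg_zero]
  | mul x y _ _ hx hy => rw [app_mul, hx, hy, smul_zero, smul_zero, add_zero]

theorem exists_universal : ∃ (Ω : X.Modules) (d : OmegaSh.Der f Ω), OmegaSh.IsUniversal d := by
  let P := PresheafOfModules.DifferentialsConstruction.relativeDifferentials' (baseι f)
  let d₀ := PresheafOfModules.DifferentialsConstruction.derivation' (baseι f)
  let hd₀ := PresheafOfModules.DifferentialsConstruction.isUniversal' (baseι f)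
  let α : X.ringCatSheaf.obj ⟶ X.ringCatSheaf.obj := 𝟙 _
  let Ω : X.Modules := (PresheafOfModules.sheafification (J := Opens.grothendieckTopology X) (R := X.ringCatSheaf) α).obj P
  let E := fun (F : X.Modules) => PresheafOfModules.sheafificationHomEquiv
    (J := Opens.grothendieckTopology X) (R := X.ringCatSheaf) α (P := P) (F := F)
  let u : P ⟶ Ω.val := E Ω (𝟙 Ω)
  let d₁ : Ω.val.Derivation' (baseι f) := d₀.postcomp u
  let d : OmegaSh.Der f Ω := mkDer (fun U => d₁.d (X := op U)) (fun U a b => d₁.d_mul (X := op U) a b)
    (fun {U V} k s => d₁.d_map k.op s)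
    (fun V c => d₁.d_app (X := op (f ⁻¹ᵁ V))
      (show baseSub f (f ⁻¹ᵁ V) from ⟨f.app V c, Subring.subset_closure ⟨V, le_rfl, c, by
        rw [Scheme.Hom.appLE_eq_app]⟩⟩))
  refine ⟨Ω, d, fun F D => ?_⟩
  let D' : F.val.Derivation' (baseι f) :=
    { d := fun {U} => D.d (X := U)
      d_mul := fun {U} a b => D.d_mul a b
      d_map := fun {U V} k x => D.d_map k x
      d_app := fun {U} a => der_baseSub f D U.unop a.1 a.2 }
  have hE : ∀ β : Ω ⟶ F, E F β = u ≫ β.val := fun β => by
    apply (PresheafOfModules.toPresheaf _).map_injective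
    exact (PresheafOfModules.toPresheaf_map_sheafificationHomEquiv_def α β).trans
      (by rw [Functor.map_comp, PresheafOfModules.toPresheaf_map_sheafificationHomEquiv_def, Category.assoc]; rfl)
  refine ⟨(E F).symm (hd₀.desc D'), ?_, fun β hβ => ?_⟩
  · have h1 : u ≫ ((E F).symm (hd₀.desc D')).val = hd₀.desc D' := by rw [← hE, Equiv.apply_symm_apply]
    refine der_ext fun U s => ?_
    show (u ≫ ((E F).symm (hd₀.desc D')).val).app (op U) (d₀.d s) = _
    rw [h1]
    exact congr($(hd₀.fac D').d (X := op U) s)
  · refine (E F).injective ?_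
    rw [Equiv.apply_symm_apply, hE]
    refine hd₀.postcomp_injective _ _ ?_
    rw [hd₀.fac]
    refine PresheafOfModules.Derivation.ext (funext fun U => AddMonoidHom.ext fun s => ?_)
    exact congr($(hβ).d (X := U) s)

end

end Groth.Agent.OmegaExistLib
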